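import Mathlib.NumberTheory.MulChar.Basic
import Mathlib.Algebra.Group.AddChar
import Mathlib.FieldTheory.Finite.GaloisField
import Mathlib.RingTheory.Norm.Transitivity
import Mathlib.RingTheory.Trace.Basic
import Mathlib.RingTheory.Polynomial.UniqueFactorization
import Mathlib.NumberTheory.Divisors
import Mathlib.Tactic.LinearCombination
import Mathlib.RingTheory.AdjoinRoot

/-! The Hasse–Davenport relation through the L-function of monic polynomials. -/

noncomputable section

set_option linter.unusedSectionVars false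

namespace Groth.Agent.HD38

open Polynomial Finset UniqueFactorizationMonoid

universe u v

variable {F : Type u} [Field F] [Fintype F] {R : Type v} [CommRing R]
variable (χ : MulChar F R) (ψ : AddChar F R)

open scoped Classical

/-- A monic polynomial with given lower coefficients. -/
def toP (m : ℕ) (a : Fin m → F) : F[X] := X ^ m + ∑ i : Fin m, C (a i) * X ^ (i : ℕ)

theorem coeff_toP {m : ℕ} (a : Fin m → F) (i : Fin m) : (toP m a).coeff i = a i := by
  simp [toP, coeff_X_pow, Nat.ne_of_lt i.2, Fin.val_inj, Finset.sum_ite_eq]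

theorem toP_monic {m : ℕ} (a : Fin m → F) : (toP m a).Monic :=
  monic_X_pow_add ((degree_sum_fin_lt a))

theorem toP_natDegree {m : ℕ} (a : Fin m → F) : (toP m a).natDegree = m := by
  have h := degree_sum_fin_lt (R := F) a
  have : (toP m a).degree = m := by
    rw [toP, degree_add_eq_left_of_degree_lt (by rwa [degree_X_pow]), degree_X_pow]
  exact natDegree_eq_of_degree_eq_some this

theorem toP_injective (m : ℕ) : Function.Injective (toP (F := F) m) := fun a b h =>
  funext fun i => by rw [← coeff_toP a i, h, coeff_toP]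

/-- Monic polynomials of degree `m`. -/
def mon (F : Type u) [Field F] [Fintype F] (m : ℕ) : Finset F[X] := (univ : Finset (Fin m → F)).image (toP m)

theorem mem_mon {m : ℕ} {f : F[X]} : f ∈ mon F m ↔ f.Monic ∧ f.natDegree = m := by
  simp only [mon, mem_image, mem_univ, true_and]
  refine ⟨fun ⟨a, ha⟩ => ha ▸ ⟨toP_monic a, toP_natDegree a⟩, fun ⟨h1, h2⟩ => ⟨fun i => f.coeff i, ?_⟩⟩
  subst h2
  conv_rhs => rw [h1.as_sum]
  rw [toP, Finset.sum_range]

/-- Monic irreducible polynomials of degree `d`. -/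
def irr (F : Type u) [Field F] [Fintype F] (d : ℕ) : Finset F[X] := (mon F d).filter Irreducible

theorem mem_irr {d : ℕ} {f : F[X]} : f ∈ irr F d ↔ (f.Monic ∧ f.natDegree = d) ∧ Irreducible f := by
  simp [irr, mem_mon]

/-- The completely multiplicative function on monic polynomials. -/
def lam (f : F[X]) : R := χ ((-1) ^ f.natDegree * f.coeff 0) * ψ (-f.nextCoeff)

theorem lam_mul {f g : F[X]} (hf : f.Monic) (hg : g.Monic) : lam χ ψ (f * g) = lam χ ψ f * lam χ ψ g := by
  rw [lam, lam, lam, hf.natDegree_mul hg, mul_coeff_zero, hf.nextCoeff_mul hg,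
    show (-1 : F) ^ (f.natDegree + g.natDegree) * (f.coeff 0 * g.coeff 0) =
      ((-1) ^ f.natDegree * f.coeff 0) * ((-1) ^ g.natDegree * g.coeff 0) by ring,
    map_mul, neg_add, AddChar.map_add_eq_mul]
  ring

theorem lam_one : lam χ ψ (1 : F[X]) = 1 := by
  simp [lam, nextCoeff]

theorem lam_pow {f : F[X]} (hf : f.Monic) (e : ℕ) : lam χ ψ (f ^ e) = lam χ ψ f ^ e := by
  induction e with
  | zero => simp [lam_one]
  | succ e ih => rw [pow_succ, lam_mul χ ψ (hf.pow e) hf, ih, pow_succ]

/-- Sum over the monic polynomials of degree `m`. -/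
def A (m : ℕ) : R := ∑ f ∈ mon F m, lam χ ψ f

/-- Sum over prime powers of degree `j`. -/
def c (j : ℕ) : R := ∑ d ∈ j.divisors, ∑ P ∈ irr F d, (d : R) * lam χ ψ P ^ (j / d)

theorem A_zero : A χ ψ 0 = 1 := by
  have : mon F 0 = {1} := by
    ext f
    rw [mem_mon, mem_singleton]
    exact ⟨fun h => h.1.natDegree_eq_zero.mp h.2, fun h => by simp [h]⟩
  simp [A, this, lam_one]

theorem A_one : A χ ψ 1 = ∑ x : F, χ x * ψ x := by
  rw [A, mon, sum_image (toP_injective 1).injOn, ← (Equiv.funUnique (Fin 1) F).symm.sum_comp,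
    ← Equiv.sum_comp (Equiv.neg F)]
  refine sum_congr rfl fun x _ => ?_
  have h0 : (toP 1 ((Equiv.funUnique (Fin 1) F).symm (-x))).coeff 0 = -x := coeff_toP _ (0 : Fin 1)
  have h1 : (toP 1 ((Equiv.funUnique (Fin 1) F).symm (-x))).nextCoeff = -x := by
    rw [nextCoeff_of_natDegree_pos (by rw [toP_natDegree]; omega), toP_natDegree]
    exact h0
  rw [Equiv.neg_apply, lam, toP_natDegree, h0, h1]
  simp

theorem A_eq_zero [IsDomain R] (hψ : ψ ≠ 1) (l : ℕ) : A χ ψ (l + 2) = 0 := by
  obtain ⟨t, ht⟩ : ∃ t : F, ψ (-t) ≠ 1 := by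
    by_contra h
    push Not at h
    exact hψ (DFunLike.ext ψ 1 fun x => by rw [← neg_neg x, h, AddChar.one_apply])
  rw [A, mon, sum_image (toP_injective _).injOn]
  let δ : Fin (l + 2) → F := Pi.single (Fin.last (l + 1)) t
  set S := ∑ a : Fin (l + 2) → F, lam χ ψ (toP (l + 2) a) with hS
  have hn : ∀ a : Fin (l + 2) → F, (toP (l + 2) a).nextCoeff = a (Fin.last (l + 1)) := fun a => by
    rw [nextCoeff_of_natDegree_pos (by rw [toP_natDegree]; omega), toP_natDegree]
    exact coeff_toP a (Fin.last (l + 1))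
  have h : S = ψ (-t) * S := by
    rw [mul_sum]
    conv_lhs => rw [hS, ← Equiv.sum_comp (Equiv.addRight δ)]
    refine sum_congr rfl fun a _ => ?_
    have h0 : (toP (l + 2) (a + δ)).coeff 0 = (toP (l + 2) a).coeff 0 := by
      refine ((coeff_toP (a + δ) (0 : Fin (l + 2))).trans ?_).trans (coeff_toP a (0 : Fin (l + 2))).symm
      simp [δ]
    simp only [Equiv.coe_addRight]
    rw [lam, lam, toP_natDegree, toP_natDegree, h0, hn, hn, Pi.add_apply, neg_add,
      AddChar.map_add_eq_mul]
    simp only [δ, Pi.single_eq_same]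
    ring
  have : (ψ (-t) - 1) * S = 0 := by rw [sub_mul, one_mul, ← h, sub_self]
  exact (mul_eq_zero.mp this).resolve_left (sub_ne_zero.mpr ht)

theorem natDegree_eq_sum {m : ℕ} {f : F[X]} (hf : f ∈ mon F m) :
    m = ∑ d ∈ Icc 1 m, ∑ P ∈ irr F d, ((Icc 1 m).filter fun e => P ^ e ∣ f).card * d := by
  obtain ⟨hmon, rfl⟩ := mem_mon.mp hf
  let s := normalizedFactors f
  have hs : ∀ P ∈ s, P.Monic ∧ Irreducible P ∧ P ∣ f := fun P hP => by
    have hi := irreducible_of_normalized_factor P hP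
    refine ⟨?_, hi, dvd_of_mem_normalizedFactors hP⟩
    have := Polynomial.monic_normalize hi.ne_zero
    rwa [normalize_normalized_factor P hP] at this
  have hprod : s.prod = f := by
    refine eq_of_monic_of_associated ?_ hmon (prod_normalizedFactors hmon.ne_zero)
    exact monic_multiset_prod_of_monic s id (fun P hP => (hs P hP).1) |> fun h => by simpa using h
  have hdeg : f.natDegree = (s.map natDegree).sum := by
    conv_lhs => rw [← hprod]
    exact natDegree_multiset_prod_of_monic _ fun P hP => (hs P hP).1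
  have hsub : s.toFinset ⊆ (Icc 1 f.natDegree).biUnion (irr F) := by
    intro P hP
    obtain ⟨h1, h2, h3⟩ := hs P (Multiset.mem_toFinset.mp hP)
    rw [mem_biUnion]
    exact ⟨P.natDegree, mem_Icc.mpr ⟨h2.natDegree_pos, natDegree_le_of_dvd h3 hmon.ne_zero⟩,
      mem_irr.mpr ⟨⟨h1, rfl⟩, h2⟩⟩
  have hdisj : (↑(Icc 1 f.natDegree) : Set ℕ).PairwiseDisjoint (irr F) := by
    intro a _ b _ hab
    exact Finset.disjoint_left.mpr fun P ha hb => hab ((mem_irr.mp ha).1.2.symm.trans (mem_irr.mp hb).1.2)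
  conv_lhs => rw [hdeg, Finset.sum_multiset_map_count,
    Finset.sum_subset hsub (fun P _ hP => by rw [Multiset.count_eq_zero.mpr (by simpa using hP), zero_smul]),
    Finset.sum_biUnion hdisj]
  refine sum_congr rfl fun d hd => sum_congr rfl fun P hP => ?_
  obtain ⟨⟨hPm, hPd⟩, hPi⟩ := mem_irr.mp hP
  rw [smul_eq_mul, hPd]
  congr 1
  have hiff : ∀ e, P ^ e ∣ f ↔ e ≤ s.count P := by
    intro e
    rw [dvd_iff_normalizedFactors_le_normalizedFactors (pow_ne_zero e hPi.ne_zero) hmon.ne_zero,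
      normalizedFactors_pow, normalizedFactors_irreducible hPi, hPm.normalize_eq_self, Multiset.nsmul_singleton,
      Multiset.le_count_iff_replicate_le]
  have hle : s.count P ≤ f.natDegree := by
    have h1 := natDegree_le_of_dvd ((hiff _).mpr le_rfl) hmon.ne_zero
    rw [natDegree_pow, hPd] at h1
    exact (Nat.le_mul_of_pos_right _ (mem_Icc.mp hd).1).trans h1
  rw [show ((Icc 1 f.natDegree).filter fun e => P ^ e ∣ f) = Icc 1 (s.count P) by
    ext e
    rw [mem_filter, mem_Icc, mem_Icc, hiff]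
    omega, Nat.card_Icc, Nat.add_sub_cancel]

theorem sum_dvd {m d e : ℕ} {P : F[X]} (hP : P ∈ irr F d) :
    ∑ f ∈ (mon F m).filter (fun f => P ^ e ∣ f), lam χ ψ f =
      if e * d ≤ m then lam χ ψ P ^ e * A χ ψ (m - e * d) else 0 := by
  obtain ⟨⟨hPm, hPd⟩, hPi⟩ := mem_irr.mp hP
  have hdeg : (P ^ e).natDegree = e * d := by rw [natDegree_pow, hPd]
  split_ifs with h
  · rw [A, mul_sum]
    refine (sum_bij (fun g _ => P ^ e * g) ?_ ?_ ?_ ?_).symm
    · intro g hg
      obtain ⟨hg1, hg2⟩ := mem_mon.mp hg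
      rw [mem_filter, mem_mon]
      refine ⟨⟨(hPm.pow e).mul hg1, ?_⟩, Dvd.intro g rfl⟩
      rw [(hPm.pow e).natDegree_mul hg1, hdeg, hg2]; omega
    · exact fun a _ b _ hab => mul_left_cancel₀ (pow_ne_zero e hPi.ne_zero) hab
    · intro f hf
      rw [mem_filter, mem_mon] at hf
      obtain ⟨⟨hf1, hf2⟩, g, rfl⟩ := hf
      have hg := (hPm.pow e).of_mul_monic_left hf1
      refine ⟨g, mem_mon.mpr ⟨hg, ?_⟩, rfl⟩
      rw [(hPm.pow e).natDegree_mul hg, hdeg] at hf2; omega
    · exact fun g hg => by rw [lam_mul χ ψ (hPm.pow e) (mem_mon.mp hg).1, lam_pow χ ψ hPm]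
  · refine Finset.sum_eq_zero fun f hf => ?_
    rw [mem_filter, mem_mon] at hf
    have := natDegree_le_of_dvd hf.2 hf.1.1.ne_zero
    omega

theorem c_eq {m j : ℕ} (hj : 1 ≤ j) (hjm : j ≤ m) :
    c χ ψ j = ∑ d ∈ Icc 1 m, ∑ P ∈ irr F d, ∑ e ∈ Icc 1 m,
      if e * d = j then (d : R) * lam χ ψ P ^ e else 0 := by
  have h1 : j.divisors = (Icc 1 m).filter (· ∣ j) := by
    ext d
    simp only [Nat.mem_divisors, mem_filter, mem_Icc]
    refine ⟨fun h => ⟨⟨Nat.pos_of_dvd_of_pos h.1 hj, (Nat.le_of_dvd hj h.1).trans hjm⟩, h.1⟩,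
      fun h => ⟨h.2, by omega⟩⟩
  rw [c, h1, sum_filter]
  refine sum_congr rfl fun d hd => ?_
  rw [mem_Icc] at hd
  split_ifs with hdj
  · refine sum_congr rfl fun P _ => ?_
    obtain ⟨q, rfl⟩ := hdj
    rw [Nat.mul_div_cancel_left q hd.1, Finset.sum_eq_single q, if_pos (mul_comm q d)]
    · intro e _ hne
      refine if_neg fun h => hne ?_
      exact Nat.eq_of_mul_eq_mul_right hd.1 (by rw [h]; exact mul_comm d q)
    · intro h
      refine if_neg fun _ => h (mem_Icc.mpr ⟨?_, ?_⟩)
      · exact Nat.pos_of_mul_pos_left hj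
      · exact ((Nat.le_mul_of_pos_left q hd.1)).trans hjm
  · refine (Finset.sum_eq_zero fun P _ => Finset.sum_eq_zero fun e _ => if_neg fun h => hdj ?_).symm
    exact ⟨e, by rw [← h, mul_comm]⟩

theorem recurrence [IsDomain R] (hψ : ψ ≠ 1) {m : ℕ} (hm : 1 ≤ m) :
    (m : R) * A χ ψ m = c χ ψ m + if 2 ≤ m then (∑ x : F, χ x * ψ x) * c χ ψ (m - 1) else 0 := by
  have h1 : (m : R) * A χ ψ m = ∑ d ∈ Icc 1 m, ∑ P ∈ irr F d, ∑ e ∈ Icc 1 m,
      if e * d ≤ m then (d : R) * lam χ ψ P ^ e * A χ ψ (m - e * d) else 0 := by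
    rw [A, mul_sum]
    calc ∑ f ∈ mon F m, (m : R) * lam χ ψ f
        = ∑ f ∈ mon F m, ∑ d ∈ Icc 1 m, ∑ P ∈ irr F d, ∑ e ∈ Icc 1 m,
            if P ^ e ∣ f then (d : R) * lam χ ψ f else 0 := by
          refine sum_congr rfl fun f hf => ?_
          conv_lhs => rw [show (m : R) = ((∑ d ∈ Icc 1 m, ∑ P ∈ irr F d,
            ((Icc 1 m).filter fun e => P ^ e ∣ f).card * d : ℕ) : R) by rw [← natDegree_eq_sum hf]]
          simp only [Nat.cast_sum, Nat.cast_mul, sum_mul]
          refine sum_congr rfl fun d _ => sum_congr rfl fun P _ => ?_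
          rw [← sum_filter, Finset.sum_const, nsmul_eq_mul, mul_assoc]
      _ = _ := by
          rw [sum_comm]
          refine sum_congr rfl fun d _ => ?_
          rw [sum_comm]
          refine sum_congr rfl fun P hP => ?_
          rw [sum_comm]
          refine sum_congr rfl fun e _ => ?_
          rw [← sum_filter, ← mul_sum, sum_dvd χ ψ hP]
          split_ifs <;> ring
  rw [h1, c_eq χ ψ hm le_rfl]
  split_ifs with h2
  · rw [c_eq χ ψ (show 1 ≤ m - 1 by omega) (Nat.sub_le m 1)]
    simp only [mul_sum, ← sum_add_distrib]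
    refine sum_congr rfl fun d _ => sum_congr rfl fun P _ => sum_congr rfl fun e _ => ?_
    by_cases ha : e * d = m
    · rw [if_pos ha.le, if_pos ha, if_neg (by omega), ha, Nat.sub_self, A_zero, mul_one, mul_zero, add_zero]
    by_cases hb : e * d = m - 1
    · rw [if_pos (by omega), if_neg ha, if_pos hb, hb, Nat.sub_sub_self hm, A_one]
      ring
    rw [if_neg ha, if_neg hb, mul_zero, add_zero]
    split_ifs with hc
    · obtain ⟨l, hl⟩ : ∃ l, m - e * d = l + 2 := ⟨m - e * d - 2, by omega⟩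
      rw [hl, A_eq_zero χ ψ hψ, mul_zero]
    · rfl
  · obtain rfl : m = 1 := by omega
    rw [add_zero]
    refine sum_congr rfl fun d hd => sum_congr rfl fun P _ => sum_congr rfl fun e he => ?_
    rw [mem_Icc] at hd he
    obtain rfl : e = 1 := by omega
    obtain rfl : d = 1 := by omega
    simp [A_zero]

theorem c_formula [IsDomain R] (hψ : ψ ≠ 1) : ∀ n : ℕ, c χ ψ (n + 1) = -(-(∑ x : F, χ x * ψ x)) ^ (n + 1) := by
  intro n
  induction n with
  | zero =>
    have := recurrence χ ψ hψ (le_refl 1)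
    rw [if_neg (by omega), add_zero, A_one, Nat.cast_one, one_mul] at this
    rw [← this]
    ring
  | succ n ih =>
    have := recurrence χ ψ hψ (show 1 ≤ n + 2 by omega)
    rw [A_eq_zero χ ψ hψ n, mul_zero, if_pos (by omega), show n + 2 - 1 = n + 1 from rfl, ih] at this
    linear_combination -this

section ext

variable (F' : Type*) [Field F'] [Fintype F'] [Algebra F F']

theorem card_fiber {d : ℕ} (hd : d ∣ Module.finrank F F') {P : F[X]} (hP : P ∈ irr F d) :
    ((univ : Finset F').filter fun x => minpoly F x = P).card = d := by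
  obtain ⟨⟨hPm, hPd⟩, hPi⟩ := mem_irr.mp hP
  have := Fact.mk hPi
  have hK : Module.finrank F (AdjoinRoot P) = d := by
    rw [(AdjoinRoot.powerBasis hPi.ne_zero).finrank, AdjoinRoot.powerBasis_dim, hPd]
  have h1 := FiniteField.natCard_algHom_of_finrank_dvd (F := F) (K := AdjoinRoot P) (L := F') (by rwa [hK])
  rw [hK, Nat.card_congr (AdjoinRoot.equiv F' F P hPi.ne_zero)] at h1
  refine Eq.trans ?_ h1
  rw [← Fintype.card_subtype, ← Nat.card_eq_fintype_card]
  refine Nat.card_congr (Equiv.subtypeEquivRight fun x => ?_)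
  rw [mem_aroots, and_iff_right hPi.ne_zero]
  exact ⟨fun h => h ▸ minpoly.aeval F x, fun h => (minpoly.eq_of_irreducible_of_monic hPi h hPm).symm⟩

theorem value (x : F') :
    χ (Algebra.norm F x) * ψ (Algebra.trace F F' x) =
      lam χ ψ (minpoly F x) ^ (Module.finrank F F' / (minpoly F x).natDegree) := by
  have hx : IsIntegral F x := .of_finite F x
  have h1 : Module.finrank F F' / (minpoly F x).natDegree = Module.finrank (IntermediateField.adjoin F {x}) F' := by
    rw [← Module.finrank_mul_finrank F (IntermediateField.adjoin F {x}) F', IntermediateField.adjoin.finrank hx,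
      Nat.mul_div_cancel_left _ (minpoly.natDegree_pos hx)]
  have hN : Algebra.norm F (IntermediateField.AdjoinSimple.gen F x) =
      (-1) ^ (minpoly F x).natDegree * (minpoly F x).coeff 0 := by
    have h := Algebra.PowerBasis.norm_gen_eq_coeff_zero_minpoly (IntermediateField.adjoin.powerBasis hx)
    rwa [IntermediateField.adjoin.powerBasis_gen hx, IntermediateField.minpoly_gen,
      IntermediateField.adjoin.powerBasis_dim] at h
  rw [h1, Algebra.norm_eq_norm_adjoin F x, trace_eq_finrank_mul_minpoly_nextCoeff F x, hN, map_pow, ← nsmul_eq_mul,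
    AddChar.map_nsmul_eq_pow, ← mul_pow]
  rfl

theorem sum_ext : ∑ x : F', χ (Algebra.norm F x) * ψ (Algebra.trace F F' x) = c χ ψ (Module.finrank F F') := by
  have hdisj : (↑(Module.finrank F F').divisors : Set ℕ).PairwiseDisjoint (irr F) := by
    intro a _ b _ hab
    exact Finset.disjoint_left.mpr fun P ha hb => hab ((mem_irr.mp ha).1.2.symm.trans (mem_irr.mp hb).1.2)
  have hmaps : ∀ x ∈ (univ : Finset F'), minpoly F x ∈ (Module.finrank F F').divisors.biUnion (irr F) := by
    intro x _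
    have hx : IsIntegral F x := .of_finite F x
    exact mem_biUnion.mpr ⟨_, Nat.mem_divisors.mpr ⟨minpoly.degree_dvd hx, Module.finrank_pos.ne'⟩,
      mem_irr.mpr ⟨⟨minpoly.monic hx, rfl⟩, minpoly.irreducible hx⟩⟩
  rw [← Finset.sum_fiberwise_of_maps_to hmaps, Finset.sum_biUnion hdisj, c]
  refine sum_congr rfl fun d hd => sum_congr rfl fun P hP => ?_
  rw [Finset.sum_congr rfl (g := fun _ => lam χ ψ P ^ (Module.finrank F F' / d)) fun x hx => by
      rw [value, (mem_filter.mp hx).2, (mem_irr.mp hP).1.2],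
    Finset.sum_const, nsmul_eq_mul, card_fiber F' (Nat.dvd_of_mem_divisors hd) hP]

theorem hasse_davenport [IsDomain R] (hψ : ψ ≠ 1) :
    -(∑ x : F', χ (Algebra.norm F x) * ψ (Algebra.trace F F' x)) =
      (-(∑ x : F, χ x * ψ x)) ^ Module.finrank F F' := by
  obtain ⟨n, hn⟩ : ∃ n, Module.finrank F F' = n + 1 := ⟨_, (Nat.succ_pred_eq_of_pos Module.finrank_pos).symm⟩
  rw [sum_ext, hn, c_formula χ ψ hψ, neg_neg]

end ext

end Groth.Agent.HD38
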